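import Groth.Agent.ExtBC.ExtPow
import Groth.Agent.SGA6Ext.Alg
import Groth.Agent.QFDualLib.Fibre
import Mathlib

/-! Top exterior power of a split extension of finite projective modules by a free module. -/

set_option autoImplicit false

universe u

open TensorProduct

noncomputable section

namespace Groth.Agent.TopExtForm

variable {R : Type u} [CommRing R] {V Q : Type u} [AddCommGroup V] [Module R V] [AddCommGroup Q]
  [Module R Q]

theorem projective_ext [Module.Finite R V] [Module.Projective R V] (k : ℕ) :
    Module.Projective R ↥(⋀[R]^k V) := by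
  obtain ⟨m, f, g, -, -, hfg⟩ := Module.Finite.exists_comp_eq_id_of_projective R V
  exact Module.Projective.of_split (exteriorPower.map k g) (exteriorPower.map k f)
    (by rw [← exteriorPower.map_comp, hfg, exteriorPower.map_id])

theorem rankAtStalk_ext [Module.Finite R V] [Module.Projective R V] (k : ℕ) (P : PrimeSpectrum R) :
    Module.rankAtStalk ↥(⋀[R]^k V) P = (Module.rankAtStalk V P).choose k := by
  haveI := Module.finitePresentation_of_projective R V
  let Rp := Localization.AtPrime P.asIdeal
  let Vp := LocalizedModule P.asIdeal.primeCompl V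
  have hbc : IsBaseChange Rp (LocalizedModule.mkLinearMap P.asIdeal.primeCompl V) :=
    IsLocalizedModule.isBaseChange P.asIdeal.primeCompl Rp _
  haveI : Module.Free Rp Vp := Module.free_of_flat_of_isLocalRing
  rw [Module.rankAtStalk_eq_finrank_tensorProduct,
    (ExtBC.isBaseChange_extMap hbc k).equiv.finrank_eq, exteriorPower.finrank_eq]
  rfl

theorem subsingleton_ext [Module.Finite R V] [Module.Projective R V] (k : ℕ)
    (h : ∀ P : PrimeSpectrum R, Module.rankAtStalk V P < k) : Subsingleton ↥(⋀[R]^k V) := by
  haveI := projective_ext (R := R) (V := V) k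
  refine (Module.rankAtStalk_eq_zero_iff_subsingleton (R := R)).1 (funext fun P => ?_)
  rw [rankAtStalk_ext, Nat.choose_eq_zero_of_lt (h P), Pi.zero_apply]

theorem mem_span_std (p : ℕ) (z : ↥(⋀[R]^p (Fin p → R))) :
    ∃ c : R, z = c • exteriorPower.ιMulti R p (Pi.basisFun R (Fin p)) := by
  set e := exteriorPower.ιMulti R p (Pi.basisFun R (Fin p))
  have h : (Submodule.mkQ (Submodule.span R {e})) ∘ₗ LinearMap.id = 0 := by
    refine exteriorPower.linearMap_ext ?_
    refine Module.Basis.ext_alternating (Pi.basisFun R (Fin p)) fun v hv => ?_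
    rw [LinearMap.compAlternatingMap_apply, LinearMap.compAlternatingMap_apply, LinearMap.comp_apply,
      LinearMap.id_apply, LinearMap.zero_apply, Submodule.mkQ_apply, Submodule.Quotient.mk_eq_zero]
    let σ : Equiv.Perm (Fin p) := Equiv.ofBijective v (Finite.injective_iff_bijective.1 hv)
    show exteriorPower.ιMulti R p ((Pi.basisFun R (Fin p)) ∘ σ) ∈ _
    rw [AlternatingMap.map_perm]
    exact Submodule.smul_of_tower_mem _ _ (Submodule.mem_span_singleton_self e)
  obtain ⟨c, hc⟩ := Submodule.mem_span_singleton.1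
    ((Submodule.Quotient.mk_eq_zero _).1 (LinearMap.congr_fun h z))
  exact ⟨c, hc.symm⟩

/-- A split extension of a projective module of rank `n - p` by `R^p` has top exterior power
`⋀^(n-p)` of the quotient. -/
theorem exists_top_equiv [Module.Finite R V] [Module.Projective R V] [Module.Finite R Q]
    [Module.Projective R Q] {n p : ℕ} (hpn : p ≤ n)
    (hV : ∀ P : PrimeSpectrum R, Module.rankAtStalk V P = n)
    (hQ : ∀ P : PrimeSpectrum R, Module.rankAtStalk Q P = n - p)
    (i : (Fin p → R) →ₗ[R] V) (π : V →ₗ[R] Q) (s : Q →ₗ[R] V)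
    (hker : LinearMap.ker π ≤ LinearMap.range i) (hs : π ∘ₗ s = LinearMap.id) :
    Nonempty (↥(⋀[R]^n V) ≃ₗ[R] ↥(⋀[R]^(n - p) Q)) := by
  haveI := projective_ext (R := R) (V := V) n
  haveI := projective_ext (R := R) (V := Q) (n - p)
  set e := exteriorPower.ιMulti R p (Pi.basisFun R (Fin p)) with he
  let Φ : ↥(⋀[R]^(n - p) Q) →ₗ[R] ↥(⋀[R]^n V) :=
    (SGA6Ext.wedge i p n e).comp (exteriorPower.map (n - p) s)
  have htop : ∀ q, q ≤ p → SGA6Ext.F i q n = ⊤ := fun q => by
    induction q with
    | zero => exact fun _ => SGA6Ext.F_zero i n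
    | succ q ih =>
      intro hq
      rw [eq_top_iff]
      intro z _
      obtain ⟨t, ht⟩ := SGA6Ext.exists_lift i π s hker hs q n (z := z) (by rw [ih (by omega)]; trivial)
      haveI := subsingleton_ext (R := R) (V := Q) (n - q) (fun P => by rw [hQ]; omega)
      rwa [Subsingleton.elim t 0, map_zero, map_zero, sub_zero] at ht
  have hbot : SGA6Ext.F i (p + 1) n = ⊥ := by
    rw [SGA6Ext.F, LinearMap.range_eq_bot]
    refine TensorProduct.ext' fun a b => ?_
    haveI := subsingleton_ext (R := R) (V := Fin p → R) (p + 1) (fun P => by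
      haveI : Nontrivial R := P.nontrivial
      rw [Module.rankAtStalk_eq_finrank_of_free]
      simp)
    rw [Subsingleton.elim a 0]
    simp
  have hsurj : Function.Surjective Φ := fun z => by
    obtain ⟨t, ht⟩ := SGA6Ext.exists_lift i π s hker hs p n (z := z) (by rw [htop p le_rfl]; trivial)
    rw [hbot, Submodule.mem_bot, sub_eq_zero] at ht
    rw [ht]
    clear ht
    induction t using TensorProduct.induction_on with
    | zero => exact ⟨0, by simp⟩
    | add a b ha hb =>
      obtain ⟨x, hx⟩ := ha
      obtain ⟨y, hy⟩ := hb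
      exact ⟨x + y, by simp only [map_add, hx, hy]⟩
    | tmul a b =>
      obtain ⟨c, rfl⟩ := mem_span_std p a
      exact ⟨c • b, by simp [Φ, he]⟩
  haveI : Module.Invertible R ↥(⋀[R]^(n - p) Q) :=
    QFDualLib.invertible_of_rankAtStalk fun P => by rw [rankAtStalk_ext, hQ, Nat.choose_self]
  haveI : Module.Invertible R ↥(⋀[R]^n V) :=
    QFDualLib.invertible_of_rankAtStalk fun P => by rw [rankAtStalk_ext, hV, Nat.choose_self]
  exact ⟨(LinearEquiv.ofBijective Φ (Module.Invertible.bijective_of_surjective hsurj)).symm⟩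

theorem invertible_top [Module.Finite R Q] [Module.Projective R Q] {r : ℕ}
    (hQ : ∀ P : PrimeSpectrum R, Module.rankAtStalk Q P = r) : Module.Invertible R ↥(⋀[R]^r Q) :=
  haveI := projective_ext (R := R) (V := Q) r
  QFDualLib.invertible_of_rankAtStalk fun P => by rw [rankAtStalk_ext, hQ, Nat.choose_self]

end Groth.Agent.TopExtForm
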