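import Groth.Agent.TopExtForm.Ext
import Groth.Agent.TopExtForm.Wedge
import Groth.Agent.QReg16Inf.Basic
import Groth.Agent.KoszulExt.Basic
import Mathlib

/-! Top forms of a smooth quotient by a regular sequence, and `Ext` of top forms. -/

set_option autoImplicit false
set_option maxHeartbeats 1000000

universe u

open CategoryTheory TensorProduct KaehlerDifferential

noncomputable section

namespace Groth.Agent.TopExtForm

variable {k : Type u} [CommRing k] {A : Type u} [CommRing A] [Algebra k A] [Algebra.Smooth k A]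
  {J : Ideal A} [Algebra.Smooth k (A ⧸ J)]

theorem span_get (xs : List A) : Ideal.span (Set.range xs.get) = Ideal.ofList xs := by
  rw [Ideal.ofList]
  congr 1
  ext x
  simp

/-- The conormal sequence for a regular sequence. -/
theorem conormal_injective {p : ℕ} (g : Fin p → A) (hq : CAlgX.IsQuasiRegular g)
    (hJ : Ideal.span (Set.range g) = J) :
    Function.Injective (Fintype.linearCombination (A ⧸ J)
      fun j => (1 : A ⧸ J) ⊗ₜ[A] D k A (g j)) := by
  rw [injective_iff_map_eq_zero]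
  intro b hb
  choose a ha using fun j => Ideal.Quotient.mk_surjective (b j)
  have hsurj : Function.Surjective (algebraMap A (A ⧸ J)) := Ideal.Quotient.mk_surjective
  obtain ⟨l, hl⟩ := (Algebra.FormallySmooth.iff_split_injection (R := k) hsurj).1 inferInstance
  have hmem : ∀ j, g j ∈ J := fun j => hJ ▸ Ideal.subset_span ⟨j, rfl⟩
  have hk : RingHom.ker (algebraMap A (A ⧸ J)) = J := Ideal.mk_ker
  have hy : ∀ j, g j ∈ RingHom.ker (algebraMap A (A ⧸ J)) := fun j => hk.symm ▸ hmem j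
  let y : RingHom.ker (algebraMap A (A ⧸ J)) := ∑ j, a j • ⟨g j, hy j⟩
  have hy0 : kerCotangentToTensor k A (A ⧸ J) (Ideal.toCotangent _ y) = 0 := by
    rw [← hb, map_sum, map_sum, Fintype.linearCombination_apply]
    refine Finset.sum_congr rfl fun j _ => ?_
    rw [map_smul, map_smul, kerCotangentToTensor_toCotangent, ← ha j]
    exact (algebraMap_smul (A ⧸ J) (a j) ((1 : A ⧸ J) ⊗ₜ[A] D k A (g j))).symm
  have hy1 : Ideal.toCotangent _ y = 0 := by
    rw [← LinearMap.id_apply (R := A) (Ideal.toCotangent _ y), ← hl, LinearMap.comp_apply, hy0, map_zero]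
  have hy2 : ∑ j, a j * g j ∈ Ideal.span (Set.range g) ^ 2 := by
    rw [hJ]
    have h := (Ideal.toCotangent_eq_zero _ _).1 hy1
    have e : (y : A) = ∑ j, a j * g j := by simp [y]
    rw [e, hk] at h
    exact h
  funext j
  have hP := hq 1 (∑ i, MvPolynomial.C (a i) * MvPolynomial.X i)
    (MvPolynomial.IsHomogeneous.sum _ _ _ fun i _ => by
      simpa using (MvPolynomial.isHomogeneous_C (Fin p) (a i)).mul (MvPolynomial.isHomogeneous_X A i))
    (by simpa using hy2) (Finsupp.single j 1)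
  rw [hJ, MvPolynomial.coeff_sum, Finset.sum_eq_single j
    (fun i _ hi => by
      classical
      rw [MvPolynomial.coeff_C_mul, MvPolynomial.coeff_X', if_neg, mul_zero]
      exact fun h => hi (Finsupp.single_left_injective one_ne_zero h))
    (fun h => absurd (Finset.mem_univ j) h), MvPolynomial.coeff_C_mul, MvPolynomial.coeff_X', if_pos rfl,
    mul_one] at hP
  rw [Pi.zero_apply, ← ha j, Ideal.Quotient.eq_zero_iff_mem]
  exact hP

theorem conormal_ker_le {p : ℕ} (g : Fin p → A) (hJ : Ideal.span (Set.range g) = J) :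
    LinearMap.ker (mapBaseChange k A (A ⧸ J)) ≤ LinearMap.range (Fintype.linearCombination (A ⧸ J)
      fun j => (1 : A ⧸ J) ⊗ₜ[A] D k A (g j)) := by
  intro v hv
  have h := range_kerCotangentToTensor k A (A ⧸ J) Ideal.Quotient.mk_surjective
  have hv' : v ∈ LinearMap.range (kerCotangentToTensor k A (A ⧸ J)) := by rw [h]; exact hv
  obtain ⟨c, rfl⟩ := hv'
  obtain ⟨⟨y, hy⟩, rfl⟩ := Ideal.toCotangent_surjective _ c
  rw [kerCotangentToTensor_toCotangent]
  replace hy : y ∈ Ideal.span (Set.range g) := by rw [hJ]; exact Ideal.Quotient.eq_zero_iff_mem.1 hy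
  show (1 : A ⧸ J) ⊗ₜ[A] D k A y ∈ _
  obtain ⟨a, rfl⟩ := (Ideal.mem_span_range_iff_exists_fun).1 hy
  refine ⟨fun j => Ideal.Quotient.mk J (a j), ?_⟩
  rw [Fintype.linearCombination_apply, map_sum, tmul_sum]
  refine Finset.sum_congr rfl fun j _ => ?_
  rw [Derivation.leibniz, tmul_add, tmul_smul, tmul_smul, smul_tmul' (g j)]
  have h0 : g j • (1 : A ⧸ J) = 0 := by
    rw [Algebra.smul_def, mul_one]
    exact Ideal.Quotient.eq_zero_iff_mem.2 (hJ ▸ Ideal.subset_span ⟨j, rfl⟩)
  rw [h0, zero_tmul, add_zero]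
  exact (algebraMap_smul (A ⧸ J) (a j) ((1 : A ⧸ J) ⊗ₜ[A] D k A (g j)))

theorem exists_ext_top [Algebra.FiniteType k A] (n : ℕ)
    (hn : ∀ q : PrimeSpectrum A, Module.rankAtStalk (Ω[A⁄k]) q = n) (xs : List A)
    (hreg : RingTheory.Sequence.IsWeaklyRegular A xs) (hJ : Ideal.ofList xs = J) (hpn : xs.length ≤ n) :
    Nonempty (Abelian.Ext (ModuleCat.of A ↥((⋀[A ⧸ J]^(n - xs.length) (Ω[(A ⧸ J)⁄k])).restrictScalars A))
      (ModuleCat.of A ↥(⋀[A]^n (Ω[A⁄k]))) xs.length ≃ₗ[A] (A ⧸ J)) := by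
  have hg : Ideal.span (Set.range xs.get) = J := by rw [span_get, hJ]
  have hq : CAlgX.IsQuasiRegular xs.get :=
    QReg16Inf.isQuasiRegular_of_isWeaklyRegular xs.get (by rwa [List.ofFn_get])
  let i := Fintype.linearCombination (A ⧸ J) fun j => (1 : A ⧸ J) ⊗ₜ[A] D k A (xs.get j)
  let π := mapBaseChange k A (A ⧸ J)
  obtain ⟨s, hs⟩ := Module.projective_lifting_property π LinearMap.id
    (mapBaseChange_surjective k A (A ⧸ J) Ideal.Quotient.mk_surjective)
  have hi : Function.Injective i := conormal_injective xs.get hq hg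
  have hker : LinearMap.ker π ≤ LinearMap.range i := conormal_ker_le xs.get hg
  have hπi : π ∘ₗ i = 0 := by
    refine LinearMap.ext fun b => ?_
    rw [LinearMap.comp_apply, Fintype.linearCombination_apply, map_sum, LinearMap.zero_apply]
    refine Finset.sum_eq_zero fun j _ => ?_
    rw [map_smul, mapBaseChange_tmul, one_smul, map_D]
    have h0 : algebraMap A (A ⧸ J) (xs.get j) = 0 :=
      Ideal.Quotient.eq_zero_iff_mem.2 (hg ▸ Ideal.subset_span ⟨j, rfl⟩)
    rw [h0, map_zero, smul_zero]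
  haveI := Algebra.FormallySmooth.projective_kaehlerDifferential (R := k) (A := A)
  have hbij : Function.Bijective (i.coprod s) := by
    refine ⟨fun x y hxy => ?_, fun m => ?_⟩
    · simp only [LinearMap.coprod_apply] at hxy
      have h2 : x.2 = y.2 := by
        simpa [map_add, ← LinearMap.comp_apply π i, ← LinearMap.comp_apply π s, hπi, hs] using congrArg π hxy
      rw [h2] at hxy
      exact Prod.ext (hi (add_right_cancel hxy)) h2
    · obtain ⟨a, ha⟩ := hker (show m - s (π m) ∈ LinearMap.ker π by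
        rw [LinearMap.mem_ker, map_sub, ← LinearMap.comp_apply π s, hs, LinearMap.id_apply, sub_self])
      exact ⟨(a, π m), by rw [LinearMap.coprod_apply, ha, sub_add_cancel]⟩
  have hV : ∀ P : PrimeSpectrum (A ⧸ J), Module.rankAtStalk ((A ⧸ J) ⊗[A] Ω[A⁄k]) P = n := fun P => by
    rw [Module.rankAtStalk_baseChange, hn]
  have hQ : ∀ P : PrimeSpectrum (A ⧸ J), Module.rankAtStalk Ω[(A ⧸ J)⁄k] P = n - xs.length := fun P => by
    haveI : Nontrivial (A ⧸ J) := P.nontrivial
    have h := congrFun (Module.rankAtStalk_eq_of_equiv (LinearEquiv.ofBijective _ hbij)) P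
    rw [Module.rankAtStalk_prod, Pi.add_apply, hV, Module.rankAtStalk_eq_finrank_of_free] at h
    simp only [Module.finrank_fin_fun, Pi.natCast_apply, Nat.cast_id] at h
    omega
  obtain ⟨eW⟩ := exists_top_equiv hpn hV hQ i π s hker hs
  let L := ↥(⋀[A ⧸ J]^(n - xs.length) (Ω[(A ⧸ J)⁄k]))
  haveI : Module.Invertible (A ⧸ J) L := invertible_top hQ
  obtain ⟨e0⟩ := exists_precomp_equiv (show ModuleCat.of A
      ↥((⋀[A ⧸ J]^(n - xs.length) (Ω[(A ⧸ J)⁄k])).restrictScalars A) ≅ ModuleCat.of A L from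
    ((Submodule.restrictScalarsEquiv A (A ⧸ J) _ (⋀[A ⧸ J]^(n - xs.length) (Ω[(A ⧸ J)⁄k]))).restrictScalars
      A).toModuleIso) (ModuleCat.of A ↥(⋀[A]^n (Ω[A⁄k]))) xs.length
  obtain ⟨e1⟩ := exists_ext_equiv_hom J L (ModuleCat.of A ↥(⋀[A]^n (Ω[A⁄k]))) xs.length
  subst hJ
  obtain ⟨e2⟩ := KoszulExt.exists_top_equiv xs hreg (ModuleCat.of A ↥(⋀[A]^n (Ω[A⁄k])))
  let e3 := (TensorProduct.quotTensorEquivQuotSMul ↥(⋀[A]^n (Ω[A⁄k])) (Ideal.ofList xs)).symm
  let e4 := (ExtBC.isBaseChange_extMap (TensorProduct.isBaseChange A Ω[A⁄k] (A ⧸ Ideal.ofList xs)) n).equiv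
  let e5 := (e4.trans eW).restrictScalars A
  let e6 : (A ⧸ Ideal.ofList xs) ≃ₗ[A] (L →ₗ[A ⧸ Ideal.ofList xs] L) :=
    (LinearEquiv.ofBijective (LinearMap.lsmul (A ⧸ Ideal.ofList xs) L)
      (Module.Invertible.toModuleEnd_bijective (R := A ⧸ Ideal.ofList xs) (M := L))).restrictScalars A
  exact ⟨e0.trans (e1.trans (((LinearEquiv.congrRight (e2.trans (e3.trans e5))).trans
    (LinearMap.extendScalarsOfSurjectiveEquiv (R := A) (S := A ⧸ Ideal.ofList xs)
      Ideal.Quotient.mk_surjective)).trans e6.symm))⟩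

end Groth.Agent.TopExtForm
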