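import Mathlib

/-! `Ext` out of a finite projective `A/J`-module, in terms of `Ext` out of `A/J`. -/

set_option autoImplicit false
set_option maxHeartbeats 400000

universe u

open CategoryTheory Abelian

noncomputable section

namespace Groth.Agent.TopExtForm

variable {A : Type u} [CommRing A] (J : Ideal A) (N : Type u) [AddCommGroup N] [Module A N]
  [Module (A ⧸ J) N] [IsScalarTower A (A ⧸ J) N]

/-- `b ↦ b • v`. -/
def rv (v : N) : ModuleCat.of A (A ⧸ J) ⟶ ModuleCat.of A N :=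
  ModuleCat.ofHom ((LinearMap.toSpanSingleton (A ⧸ J) N v).restrictScalars A)

theorem rv_add (v w : N) : rv J N (v + w) = rv J N v + rv J N w :=
  ModuleCat.hom_ext (LinearMap.ext fun b => by simp [rv])

theorem rv_smul (c : A) (v : N) : rv J N (c • v) = c • rv J N v :=
  ModuleCat.hom_ext (LinearMap.ext fun b => smul_comm b c v)

theorem exists_ext_equiv_hom [Module.Finite (A ⧸ J) N] [Module.Projective (A ⧸ J) N]
    (Y : ModuleCat.{u} A) (p : ℕ) :
    Nonempty (Ext (ModuleCat.of A N) Y p ≃ₗ[A] (N →ₗ[A] Ext (ModuleCat.of A (A ⧸ J)) Y p)) := by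
  classical
  obtain ⟨m, f, g, -, -, hfg⟩ := Module.Finite.exists_comp_eq_id_of_projective (A ⧸ J) N
  let φ : Fin m → (ModuleCat.of A N ⟶ ModuleCat.of A (A ⧸ J)) := fun j =>
    ModuleCat.ofHom (((LinearMap.proj j).comp g).restrictScalars A)
  let w : Fin m → N := fun j => f (Pi.single j 1)
  have hsum : ∀ v : N, ∑ j, g v j • w j = v := fun v => by
    conv_rhs => rw [← LinearMap.id_apply (R := A ⧸ J) v, ← hfg, LinearMap.comp_apply,
      pi_eq_sum_univ' (g v), map_sum]
    exact Finset.sum_congr rfl fun j _ => by rw [map_smul]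
  have hid : (∑ j, φ j ≫ rv J N (w j)) = 𝟙 (ModuleCat.of A N) := by
    refine ModuleCat.hom_ext (LinearMap.ext fun v => ?_)
    rw [ModuleCat.hom_sum, LinearMap.sum_apply]
    exact hsum v
  let Φ : Ext (ModuleCat.of A N) Y p →ₗ[A] (N →ₗ[A] Ext (ModuleCat.of A (A ⧸ J)) Y p) :=
    LinearMap.mk₂ A (fun a v => (Ext.mk₀ (rv J N v)).comp a (zero_add p))
      (fun a b v => Ext.comp_add _ _ _ _) (fun c a v => Ext.comp_smul _ _ _ _)
      (fun a v w => by rw [rv_add, Ext.mk₀_add, Ext.add_comp])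
      (fun c a v => by rw [rv_smul, Ext.mk₀_smul, Ext.smul_comp])
  refine ⟨LinearEquiv.ofBijective Φ
    (Function.bijective_iff_has_inverse.2 ⟨fun F => ∑ j, (Ext.mk₀ (φ j)).comp (F (w j)) (zero_add p),
      fun a => ?_, fun F => LinearMap.ext fun v => ?_⟩)⟩
  · show ∑ j, (Ext.mk₀ (φ j)).comp ((Ext.mk₀ (rv J N (w j))).comp a (zero_add p)) (zero_add p) = a
    simp only [Ext.mk₀_comp_mk₀_assoc]
    rw [← Ext.sum_comp, ← Ext.mk₀_sum, hid, Ext.mk₀_id_comp]
  · show (Ext.mk₀ (rv J N v)).comp (∑ j, (Ext.mk₀ (φ j)).comp (F (w j)) (zero_add p)) (zero_add p) = F v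
    choose c hc using fun j => Ideal.Quotient.mk_surjective (g v j)
    have hj : ∀ j, rv J N v ≫ φ j = c j • 𝟙 (ModuleCat.of A (A ⧸ J)) := fun j => by
      refine ModuleCat.hom_ext (LinearMap.ext fun b => ?_)
      show g (b • v) j = c j • b
      rw [map_smul, Pi.smul_apply, smul_eq_mul, ← hc j, mul_comm, Algebra.smul_def]
      rfl
    rw [Ext.comp_sum]
    simp only [Ext.mk₀_comp_mk₀_assoc, hj, Ext.mk₀_smul, Ext.smul_comp, Ext.mk₀_id_comp]
    simp only [← map_smul, ← map_sum]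
    congr 1
    conv_rhs => rw [← hsum v]
    exact Finset.sum_congr rfl fun j _ => by
      rw [← hc j]; exact (algebraMap_smul (A ⧸ J) (c j) (w j)).symm

/-- Transport of the first argument of `Ext`. -/
theorem exists_precomp_equiv {X X' : ModuleCat.{u} A} (e : X ≅ X') (Y : ModuleCat.{u} A) (p : ℕ) :
    Nonempty (Ext X Y p ≃ₗ[A] Ext X' Y p) :=
  ⟨{ toFun := fun a => (Ext.mk₀ e.inv).comp a (zero_add p)
     invFun := fun a => (Ext.mk₀ e.hom).comp a (zero_add p)
     map_add' := fun a b => Ext.comp_add _ _ _ _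
     map_smul' := fun c a => Ext.comp_smul _ _ _ _
     left_inv := fun a => by simp only [Ext.mk₀_comp_mk₀_assoc, Iso.hom_inv_id, Ext.mk₀_id_comp]
     right_inv := fun a => by simp only [Ext.mk₀_comp_mk₀_assoc, Iso.inv_hom_id, Ext.mk₀_id_comp] }⟩

end Groth.Agent.TopExtForm
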